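import Mathlib
import Cfsg.Agent.Lib.Helper62.Subnormal2

set_option autoImplicit false

/-!
# A "zipper lemma with one exception" (towards Flavell's theorem on subnormal closures), part 1

`AH n C M`: `C` has order `n`, full normal closure, and `M` is the only maximal subgroup containing
`C` in which `C` is not subnormal (its *home*).  (helper57)
-/

namespace Cfsg.Agent.Lib.Helper57.Flav

open Cfsg.Agent.Lib.Helper62

variable {G : Type*} [Group G]

/-- conjugate subgroup -/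
abbrev cj (g : G) (X : Subgroup G) : Subgroup G := X.map (MulAut.conj g).toMonoidHom

theorem cj_mul (g h : G) (X : Subgroup G) : cj g (cj h X) = cj (g * h) X := map_conj_mul g h X

theorem cj_one (X : Subgroup G) : cj (1 : G) X = X := map_conj_one X

theorem cj_inv_cj (g : G) (X : Subgroup G) : cj g⁻¹ (cj g X) = X := map_conj_inv_map_conj g X

theorem cj_cj_inv (g : G) (X : Subgroup G) : cj g (cj g⁻¹ X) = X := map_conj_map_conj_inv g X

theorem cj_le_iff (g : G) (X Y : Subgroup G) : cj g X ≤ Y ↔ X ≤ cj g⁻¹ Y := map_conj_le_iff g X Y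

theorem cj_mono (g : G) {X Y : Subgroup G} (h : X ≤ Y) : cj g X ≤ cj g Y := Subgroup.map_mono h

theorem cj_le_cj_iff (g : G) {X Y : Subgroup G} : cj g X ≤ cj g Y ↔ X ≤ Y := by
  rw [cj_le_iff, cj_inv_cj]

theorem cj_injective (g : G) {X Y : Subgroup G} (h : cj g X = cj g Y) : X = Y := by
  have := congrArg (cj g⁻¹) h
  rwa [cj_inv_cj, cj_inv_cj] at this

theorem cj_of_nz {g : G} {X : Subgroup G} (h : g ∈ Subgroup.normalizer (X : Set G)) : cj g X = X :=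
  map_conj_eq_of_mem_normalizer h

theorem cj_of_mem {g : G} {X : Subgroup G} (h : g ∈ X) : cj g X = X :=
  map_conj_eq_of_mem_normalizer (Subgroup.le_normalizer h)

theorem card_cj (g : G) (X : Subgroup G) : Nat.card (cj g X) = Nat.card X :=
  Subgroup.card_map_of_injective (MulAut.conj g).injective

theorem cj_top (g : G) : cj g (⊤ : Subgroup G) = ⊤ := cj_of_mem (Subgroup.mem_top g)

theorem isCoatom_cj (g : G) {M : Subgroup G} (hM : IsCoatom M) : IsCoatom (cj g M) := by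
  refine ⟨fun h => hM.1 ?_, fun b hb => ?_⟩
  · apply cj_injective g
    rw [h, cj_top]
  · have h1 : M < cj g⁻¹ b := by
      refine lt_of_le_of_ne ((cj_le_iff g M b).mp hb.le) ?_
      intro h
      apply hb.ne
      rw [h, cj_cj_inv]
    have h2 := hM.2 _ h1
    have h3 := congrArg (cj g) h2
    rwa [cj_cj_inv, cj_top] at h3

/-- `C` has full normal closure. -/
def Full (C : Subgroup G) : Prop :=
  ∀ N : Subgroup G, (∀ g : G, g ∈ Subgroup.normalizer (N : Set G)) → C ≤ N → N = ⊤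

theorem Full.mono {C D : Subgroup G} (h : Full C) (hCD : C ≤ D) : Full D :=
  fun N hN hD => h N hN (hCD.trans hD)

theorem Full.conj {C : Subgroup G} (h : Full C) (g : G) : Full (cj g C) := by
  intro N hN hC
  apply h N hN
  have := (cj_le_iff g C N).mp hC
  rwa [cj_of_nz (hN g⁻¹)] at this

theorem full_iff {C : Subgroup G} : Full C ↔ Subgroup.normalClosure (C : Set G) = ⊤ := by
  constructor
  · intro h
    apply h _ _ Subgroup.le_normalClosure
    intro g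
    rw [Subgroup.normalizer_eq_top]
    exact Subgroup.mem_top g
  · intro h N hN hC
    have hn : N.Normal := by
      rw [← Subgroup.normalizer_eq_top_iff]
      exact eq_top_iff.mpr (fun g _ => hN g)
    have := Subgroup.normalClosure_le_normal (N := N) (s := (C : Set G)) hC
    rw [h] at this
    exact eq_top_iff.mpr this

/-- `M` is the home of `C`. -/
def Hm (C M : Subgroup G) : Prop :=
  IsCoatom M ∧ C ≤ M ∧ ¬ SubnIn C M ∧ ∀ L, IsCoatom L → C ≤ L → L ≠ M → SubnIn C L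

/-- `C` is admissible (order `n`, full normal closure) with home `M`. -/
def AH (n : ℕ) (C M : Subgroup G) : Prop := Nat.card C = n ∧ Full C ∧ Hm C M

theorem AH.coatom {n : ℕ} {C M : Subgroup G} (h : AH n C M) : IsCoatom M := h.2.2.1
theorem AH.le {n : ℕ} {C M : Subgroup G} (h : AH n C M) : C ≤ M := h.2.2.2.1
theorem AH.not_sn {n : ℕ} {C M : Subgroup G} (h : AH n C M) : ¬ SubnIn C M := h.2.2.2.2.1
theorem AH.sn {n : ℕ} {C M L : Subgroup G} (h : AH n C M) (hL : IsCoatom L) (hC : C ≤ L)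
    (hne : L ≠ M) : SubnIn C L := h.2.2.2.2.2 L hL hC hne

theorem AH.unique {n : ℕ} {C M₁ M₂ : Subgroup G} (h₁ : AH n C M₁) (h₂ : AH n C M₂) : M₁ = M₂ := by
  by_contra hne
  exact h₁.not_sn (h₂.sn h₁.coatom h₁.le hne)

theorem AH.conj {n : ℕ} {C M : Subgroup G} (h : AH n C M) (g : G) : AH n (cj g C) (cj g M) := by
  refine ⟨(card_cj g C).trans h.1, h.2.1.conj g, isCoatom_cj g h.coatom, cj_mono g h.le, ?_, ?_⟩
  · intro hs
    have := hs.conj g⁻¹
    rw [map_conj_inv_map_conj, map_conj_inv_map_conj] at this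
    exact h.not_sn this
  · intro L hL hC hne
    have h1 : SubnIn C (cj g⁻¹ L) := by
      refine h.sn (isCoatom_cj g⁻¹ hL) ((cj_le_iff g C L).mp hC) ?_
      intro he
      apply hne
      rw [← he, cj_cj_inv]
    have := h1.conj g
    rwa [map_conj_map_conj_inv] at this

theorem coatom_eq_of_le {L M : Subgroup G} (hL : IsCoatom L) (hM : IsCoatom M) (h : L ≤ M) :
    L = M := by
  by_contra hne
  exact hM.1 (hL.2 M (lt_of_le_of_ne h hne))

theorem AH.mem_of_cj_home_eq {n : ℕ} {C M : Subgroup G} (h : AH n C M) {g : G}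
    (hg : cj g M = M) : g ∈ M := by
  have h1 : g ∈ Subgroup.normalizer (M : Set G) := Subgroup.mem_normalizer_iff_map_conj_eq.mpr hg
  by_contra hgM
  have h2 : M < Subgroup.normalizer (M : Set G) :=
    lt_of_le_of_ne Subgroup.le_normalizer (fun he => hgM (by rw [he]; exact h1))
  have h3 := h.coatom.2 _ h2
  apply h.coatom.1
  apply h.2.1 M _ h.le
  intro x
  rw [h3]
  exact Subgroup.mem_top x

theorem AH.normalizer_le {n : ℕ} {C M : Subgroup G} (h : AH n C M) :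
    Subgroup.normalizer (C : Set G) ≤ M := by
  intro g hg
  apply h.mem_of_cj_home_eq
  have h1 := h.conj g
  rw [cj_of_nz hg] at h1
  exact h1.unique h

/-- The inductive hypothesis in "zipper with one exception" form. -/
def GC (G : Type*) [Group G] (n : ℕ) : Prop :=
  ∀ T : Subgroup G, n < Nat.card T → Full T → ∀ M' : Subgroup G,
    (∀ L, IsCoatom L → T ≤ L → L ≠ M' → SubnIn T L) →
    ∀ L₁ L₂, IsCoatom L₁ → IsCoatom L₂ → T ≤ L₁ → T ≤ L₂ → L₁ = L₂

variable [Finite G] {n : ℕ}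

/-- the basic consequence of the inductive hypothesis for a family of admissible subgroups -/
theorem R (hGC : GC G n) (Γ : Set (Subgroup G)) (hΓ : ∀ C ∈ Γ, ∃ M, AH n C M)
    {C₁ C₂ : Subgroup G} (h₁ : C₁ ∈ Γ) (h₂ : C₂ ∈ Γ) (hne : C₁ ≠ C₂) (M' : Subgroup G)
    (hM' : ∀ C ∈ Γ, ∀ M, AH n C M → (∀ C' ∈ Γ, C' ≤ M) → M = M')
    {L₁ L₂ : Subgroup G} (hL₁ : IsCoatom L₁) (hL₂ : IsCoatom L₂)
    (h1 : ∀ C ∈ Γ, C ≤ L₁) (h2 : ∀ C ∈ Γ, C ≤ L₂) : L₁ = L₂ := by
  obtain ⟨M₁, hM₁⟩ := hΓ C₁ h₁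
  obtain ⟨M₂, hM₂⟩ := hΓ C₂ h₂
  have hcard : n < Nat.card (sSup Γ : Subgroup G) := by
    by_contra hle
    have e1 : C₁ = sSup Γ := Subgroup.eq_of_le_of_card_ge (le_sSup h₁) (by rw [hM₁.1]; omega)
    have e2 : C₂ = sSup Γ := Subgroup.eq_of_le_of_card_ge (le_sSup h₂) (by rw [hM₂.1]; omega)
    exact hne (e1.trans e2.symm)
  refine hGC (sSup Γ) hcard (hM₁.2.1.mono (le_sSup h₁)) M' ?_ L₁ L₂ hL₁ hL₂ (sSup_le h1) (sSup_le h2)
  intro L hL hT hLM
  apply subnIn_sSup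
  intro C hC
  obtain ⟨M, hM⟩ := hΓ C hC
  refine hM.sn hL ((le_sSup hC).trans hT) ?_
  rintro rfl
  exact hLM (hM' C hC L hM (fun C' hC' => (le_sSup hC').trans hT))

/-- pairs -/
theorem R2 (hGC : GC G n) {C₁ C₂ M₁ M₂ : Subgroup G} (h₁ : AH n C₁ M₁) (h₂ : AH n C₂ M₂)
    (hne : C₁ ≠ C₂) (M' : Subgroup G) (a₁ : C₂ ≤ M₁ → M₁ = M') (a₂ : C₁ ≤ M₂ → M₂ = M')
    {L₁ L₂ : Subgroup G} (hL₁ : IsCoatom L₁) (hL₂ : IsCoatom L₂)
    (b₁ : C₁ ≤ L₁) (b₂ : C₂ ≤ L₁) (c₁ : C₁ ≤ L₂) (c₂ : C₂ ≤ L₂) : L₁ = L₂ := by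
  refine R hGC {C₁, C₂} ?_ (C₁ := C₁) (C₂ := C₂) (by simp) (by simp) hne M' ?_ hL₁ hL₂ ?_ ?_
  · rintro C (rfl | rfl)
    · exact ⟨_, h₁⟩
    · exact ⟨_, h₂⟩
  · rintro C (rfl | rfl) M hM hall
    · rw [hM.unique h₁]
      exact a₁ (by rw [← hM.unique h₁]; exact hall C₂ (by simp))
    · rw [hM.unique h₂]
      exact a₂ (by rw [← hM.unique h₂]; exact hall C₁ (by simp))
  · rintro C (rfl | rfl) <;> assumption
  · rintro C (rfl | rfl) <;> assumption

/-- two different admissible subgroups with the same home lie in no other maximal subgroup -/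
theorem S1 (hGC : GC G n) {C₁ C₂ M L : Subgroup G} (h₁ : AH n C₁ M) (h₂ : AH n C₂ M)
    (hne : C₁ ≠ C₂) (hL : IsCoatom L) (b₁ : C₁ ≤ L) (b₂ : C₂ ≤ L) : L = M :=
  R2 hGC h₁ h₂ hne M (fun _ => rfl) (fun _ => rfl) hL h₁.coatom b₁ b₂ h₁.le h₂.le

/-- in a foreign maximal subgroup `L`, `L ⊓ M` normalizes `C` -/
theorem Nz (hGC : GC G n) {C M L : Subgroup G} (h : AH n C M) (hL : IsCoatom L) (hC : C ≤ L)
    (hne : L ≠ M) {t : G} (tL : t ∈ L) (tM : t ∈ M) : cj t C = C := by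
  by_contra hc
  have h1 := h.conj t
  rw [cj_of_mem tM] at h1
  apply hne
  refine S1 hGC h1 h hc hL ?_ hC
  have := cj_mono t hC
  rwa [cj_of_mem tL] at this

/-- symmetry of "lies in the home of" -/
theorem P (hGC : GC G n) {C₁ C₂ M₁ M₂ L : Subgroup G} (h₁ : AH n C₁ M₁) (h₂ : AH n C₂ M₂)
    (hne : C₁ ≠ C₂) (hL : IsCoatom L) (b₁ : C₁ ≤ L) (b₂ : C₂ ≤ L) (hLM : L ≠ M₁)
    (h : C₂ ≤ M₁) : C₁ ≤ M₂ := by
  by_contra hc
  exact hLM (R2 hGC h₁ h₂ hne M₁ (fun _ => rfl) (fun x => absurd x hc) hL h₁.coatom b₁ b₂ h₁.le h)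

/-- transitivity -/
theorem Cl (hGC : GC G n) {C C₁ C₂ M₀ M₁ M₂ L : Subgroup G} (h : AH n C M₀) (h₁ : AH n C₁ M₁)
    (h₂ : AH n C₂ M₂) (n₁ : C ≠ C₁) (n₂ : C ≠ C₂) (n₁₂ : C₁ ≠ C₂) (hL : IsCoatom L)
    (b : C ≤ L) (b₁ : C₁ ≤ L) (b₂ : C₂ ≤ L) (hLM : L ≠ M₀) (a₁ : C₁ ≤ M₀) (a₂ : C₂ ≤ M₀) :
    C₂ ≤ M₁ := by
  by_contra hc
  have hc' : ¬ C₁ ≤ M₂ := by
    intro h12
    by_cases hLM₂ : L = M₂
    · have : M₀ ≠ M₂ := fun e => hLM (hLM₂.trans e.symm)
      exact hc (P hGC h₂ h₁ n₁₂.symm h.coatom a₂ a₁ this h12)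
    · exact hc (P hGC h₂ h₁ n₁₂.symm hL b₂ b₁ hLM₂ h12)
  apply hLM
  refine R hGC {C, C₁, C₂} ?_ (C₁ := C) (C₂ := C₁) (by simp) (by simp) n₁ M₀ ?_ hL h.coatom ?_ ?_
  · rintro D (rfl | rfl | rfl)
    · exact ⟨_, h⟩
    · exact ⟨_, h₁⟩
    · exact ⟨_, h₂⟩
  · rintro D (rfl | rfl | rfl) M hM hall
    · exact hM.unique h
    · exact absurd (by rw [← hM.unique h₁]; exact hall C₂ (by simp)) hc
    · exact absurd (by rw [← hM.unique h₂]; exact hall C₁ (by simp)) hc'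
  · rintro D (rfl | rfl | rfl) <;> assumption
  · rintro D (rfl | rfl | rfl)
    · exact h.le
    · exact a₁
    · exact a₂

end Cfsg.Agent.Lib.Helper57.Flav
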