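import Mathlib
import Cfsg.Agent.Lib.Helper57.FlavA

set_option autoImplicit false

/-!
# A "zipper lemma with one exception", part 2: the core contradiction  (helper57)
-/

namespace Cfsg.Agent.Lib.Helper57.Flav

open Cfsg.Agent.Lib.Helper62

variable {G : Type*} [Group G] [Finite G] {n : ℕ}

/-- the admissible subgroups contained in `M₁ ⊓ M₂` -/
def blk (n : ℕ) (M₁ M₂ : Subgroup G) : Set (Subgroup G) :=
  {C | (∃ M, AH n C M) ∧ C ≤ M₁ ∧ C ≤ M₂}

theorem blk_comm (M₁ M₂ : Subgroup G) : blk n M₁ M₂ = blk n M₂ M₁ := by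
  ext C
  constructor
  · rintro ⟨a, b, c⟩
    exact ⟨a, c, b⟩
  · rintro ⟨a, b, c⟩
    exact ⟨a, c, b⟩

/-- the members of a block lie in each other's homes -/
theorem K1 (hGC : GC G n) {B M MB : Subgroup G} (hB : AH n B MB) (hM : IsCoatom M)
    (hne : M ≠ MB) (hBM : B ≤ M) {C₁ C₂ M₂ : Subgroup G} (h₁ : C₁ ∈ blk n M MB)
    (h₂ : C₂ ∈ blk n M MB) (h12 : C₁ ≠ C₂) (hM₂ : AH n C₂ M₂) : C₁ ≤ M₂ := by
  obtain ⟨⟨M₁, hM₁⟩, a₁, b₁⟩ := h₁
  obtain ⟨-, a₂, b₂⟩ := h₂
  by_cases e₂ : C₂ = B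
  · subst e₂
    rw [hM₂.unique hB]
    exact b₁
  by_cases e₁ : C₁ = B
  · subst e₁
    exact P hGC hB hM₂ h12 hM hBM a₂ hne b₂
  · exact Cl hGC hB hM₂ hM₁ (Ne.symm e₂) (Ne.symm e₁) h12.symm hM hBM a₂ a₁ hne b₂ b₁

/-- an element `m` of the home `M` of `A` with `m⁻¹ B m ≤ M_B` normalizes `A` -/
theorem fixA (hGC : GC G n) {A B M MB : Subgroup G} (hA : AH n A M) (hB : AH n B MB)
    (hne : M ≠ MB) (hAB : A ≤ MB) (hBM : B ≤ M) {m : G} (hm : m ∈ M) (h : cj m⁻¹ B ≤ MB) :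
    cj m A = A := by
  have hm' : m⁻¹ ∈ M := M.inv_mem hm
  have hB' : AH n (cj m⁻¹ B) (cj m⁻¹ MB) := hB.conj m⁻¹
  have hB'M : cj m⁻¹ B ≤ M := by
    have := cj_mono m⁻¹ hBM
    rwa [cj_of_mem hm'] at this
  have hhome : cj m⁻¹ MB ≠ M := by
    intro e
    apply hne
    have := congrArg (cj m) e
    rw [cj_cj_inv, cj_of_mem hm] at this
    exact this.symm
  have hneAB : A ≠ cj m⁻¹ B := by
    intro e
    rw [← e] at hB'
    exact hhome (hB'.unique hA)
  have h1 : A ≤ cj m⁻¹ MB :=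
    K1 hGC hB hA.coatom hne hBM ⟨⟨_, hA⟩, hA.le, hAB⟩ ⟨⟨_, hB'⟩, hB'M, h⟩ hneAB hB'
  have h2 : cj m A ≤ MB := (cj_le_iff m A MB).mpr h1
  have h3 : AH n (cj m A) M := by
    have := hA.conj m
    rwa [cj_of_mem hm] at this
  by_contra hc
  exact hne (S1 hGC h3 hA hc hB.coatom h2 hAB).symm

/-- the key lemma: a subgroup `X` normalizing the block group `Q`, with `Q ⊔ X` lying only in `M` -/
theorem exists_X (hGC : GC G n) {A B M MB : Subgroup G} (hA : AH n A M) (hB : AH n B MB)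
    (hne : M ≠ MB) (hAB : A ≤ MB) (hBM : B ≤ M) :
    ∃ X : Subgroup G, X ≤ Subgroup.normalizer ((sSup (blk n M MB) : Subgroup G) : Set G) ∧
      ∀ L, IsCoatom L → sSup (blk n M MB) ≤ L → X ≤ L → L = M := by
  classical
  set Sg : Set (Subgroup G) := {C | (∃ MC, AH n C MC ∧ MC ≠ M) ∧ C ≤ M} with hSg
  set b : Set (Subgroup G) := {C | C ∈ Sg ∧ C ≤ MB} with hb
  have hBb : B ∈ b := ⟨⟨⟨MB, hB, hne.symm⟩, hBM⟩, hB.le⟩
  have hSgsn : ∀ C ∈ Sg, SubnIn C M := by
    rintro C ⟨⟨MC, hMC, hMCne⟩, hCM⟩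
    exact hMC.sn hA.coatom hCM hMCne.symm
  have hSgconj : ∀ C ∈ Sg, ∀ g ∈ M, C.map (MulAut.conj g).toMonoidHom ∈ Sg := by
    rintro C ⟨⟨MC, hMC, hMCne⟩, hCM⟩ g hg
    refine ⟨⟨cj g MC, hMC.conj g, ?_⟩, ?_⟩
    · intro e
      apply hMCne
      have := congrArg (cj g⁻¹) e
      rwa [cj_inv_cj, cj_of_mem (M.inv_mem hg)] at this
    · have := cj_mono g hCM
      rwa [cj_of_mem hg] at this
  have hbSg : b ⊂ Sg := by
    refine ⟨fun C hC => hC.1, ?_⟩
    intro hsub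
    apply hA.not_sn
    refine SubnIn.of_normal hA.le ?_
    intro m hm
    rw [Subgroup.mem_normalizer_iff_map_conj_eq]
    refine fixA hGC hA hB hne hAB hBM hm ?_
    exact (hsub (hSgconj B hBb.1 m⁻¹ (M.inv_mem hm))).2
  obtain ⟨X, hXSg, hXb, hXJ⟩ := exists_normalizing_of_ssubset M Sg b hSgsn hSgconj hbSg
  have hXM : X ≤ M := hXSg.2
  obtain ⟨⟨MX, hMX, hMXne⟩, -⟩ := hXSg
  have hXMB : ¬ X ≤ MB := fun h => hXb ⟨⟨⟨MX, hMX, hMXne⟩, hXM⟩, h⟩
  have hJMB : sSup b ≤ MB := sSup_le (fun C hC => hC.2)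
  -- `X` permutes `b`
  have hperm : ∀ x ∈ X, ∀ C ∈ b, cj x C ∈ b := by
    intro x hx C hC
    refine ⟨hSgconj C hC.1 x (hXM hx), ?_⟩
    have h1 : cj x C ≤ cj x (sSup b) := cj_mono x (le_sSup hC)
    rw [cj_of_nz (hXJ hx)] at h1
    exact h1.trans hJMB
  -- `X` normalizes `A`
  have hXA : X ≤ Subgroup.normalizer (A : Set G) := by
    intro x hx
    rw [Subgroup.mem_normalizer_iff_map_conj_eq]
    exact fixA hGC hA hB hne hAB hBM (hXM hx) (hperm x⁻¹ (X.inv_mem hx) B hBb).2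
  -- the block is `A` together with `b`
  have hblk : blk n M MB = insert A b := by
    ext C
    constructor
    · rintro ⟨⟨MC, hMC⟩, h1, h2⟩
      by_cases e : MC = M
      · subst e
        left
        by_contra hc
        exact hne (S1 hGC hMC hA hc hB.coatom h2 hAB).symm
      · right
        exact ⟨⟨⟨MC, hMC, e⟩, h1⟩, h2⟩
    · rintro (rfl | ⟨⟨⟨MC, hMC, -⟩, h1⟩, h2⟩)
      · exact ⟨⟨_, hA⟩, hA.le, hAB⟩
      · exact ⟨⟨_, hMC⟩, h1, h2⟩
  refine ⟨X, ?_, ?_⟩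
  · rw [hblk, sSup_insert]
    exact le_normalizer_sup hXA hXJ
  · intro L hL hQL hXL
    have hAblk : A ∈ blk n M MB := ⟨⟨_, hA⟩, hA.le, hAB⟩
    have hBblk : B ∈ blk n M MB := ⟨⟨_, hB⟩, hBM, hB.le⟩
    have hAneB : A ≠ B := by
      rintro rfl
      exact hne (hA.unique hB)
    have hXneB : X ≠ B := by
      rintro rfl
      exact hXb hBb
    refine R hGC (insert X (blk n M MB)) ?_ (C₁ := A) (C₂ := B) (Set.mem_insert_of_mem _ hAblk)
      (Set.mem_insert_of_mem _ hBblk) hAneB M ?_ hL hA.coatom ?_ ?_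
    · rintro C (rfl | hC)
      · exact ⟨_, hMX⟩
      · exact hC.1
    · rintro C hC MC hMC hall
      by_contra hMCne
      rcases hC with rfl | hC
      · -- `C = X`
        have e := hMC.unique hMX
        subst e
        have hBMX : B ≤ MC := hall B (Set.mem_insert_of_mem _ hBblk)
        exact hXMB (P hGC hMC hB hXneB hA.coatom hXM hBM (Ne.symm hMCne) hBMX)
      · have hXMC : X ≤ MC := hall X (Set.mem_insert _ _)
        by_cases e : C = B
        · subst e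
          rw [hMC.unique hB] at hXMC
          exact hXMB hXMC
        · have hBMC : B ≤ MC := K1 hGC hB hA.coatom hne hBM hBblk hC (Ne.symm e) hMC
          have hCX : C ≠ X := by
            rintro rfl
            exact hXMB hC.2.2
          exact hXMB (Cl hGC hMC hB hMX e hCX hXneB.symm hA.coatom hC.2.1 hBM hXM
            (Ne.symm hMCne) hBMC hXMC)
    · rintro C (rfl | hC)
      · exact hXL
      · exact (le_sSup hC).trans hQL
    · rintro C (rfl | hC)
      · exact hXM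
      · exact hC.2.1

/-- **Core**: under the inductive hypothesis, an admissible subgroup lies in no maximal subgroup
other than its home. -/
theorem core (hGC : GC G n) {A M L : Subgroup G} (hA : AH n A M) (hL : IsCoatom L) (hAL : A ≤ L) :
    L = M := by
  classical
  by_contra hne
  have hsn : SubnIn A L := hA.sn hL hAL hne
  -- a conjugate `B` of `A` under `L`, different from `A` and normalizing `A`
  set S : Set (Subgroup G) := {C | ∃ l ∈ L, C = cj l A} with hS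
  have hnn : ¬ L ≤ Subgroup.normalizer (A : Set G) := by
    intro h
    exact hne (coatom_eq_of_le hL hA.coatom (h.trans hA.normalizer_le))
  have hss : ({A} : Set (Subgroup G)) ⊂ S := by
    refine ⟨?_, ?_⟩
    · rintro C rfl
      exact ⟨1, L.one_mem, (cj_one _).symm⟩
    · intro hsub
      apply hnn
      intro l hl
      rw [Subgroup.mem_normalizer_iff_map_conj_eq]
      exact hsub ⟨l, hl, rfl⟩
  obtain ⟨B, ⟨l, hl, rfl⟩, hBA, hBN⟩ := exists_normalizing_of_ssubset L S {A}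
    (by
      rintro C ⟨l, hl, rfl⟩
      have := hsn.conj l
      rwa [map_conj_eq_of_mem_normalizer (Subgroup.le_normalizer hl)] at this)
    (by
      rintro C ⟨l, hl, rfl⟩ g hg
      exact ⟨g * l, L.mul_mem hg hl, cj_mul g l A⟩) hss
  rw [sSup_singleton] at hBN
  have hBA' : cj l A ≠ A := hBA
  have hB : AH n (cj l A) (cj l M) := hA.conj l
  have hBL : cj l A ≤ L := by
    have := cj_mono l hAL
    rwa [cj_of_mem hl] at this
  have hBM : cj l A ≤ M := hBN.trans hA.normalizer_le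
  have hMB : M ≠ cj l M := by
    intro e
    rw [← e] at hB
    exact hne (S1 hGC hB hA hBA' hL hBL hAL)
  have hAB : A ≤ cj l M := P hGC hA hB hBA'.symm hL hAL hBL hne hBM
  obtain ⟨X₁, hX₁, hX₁'⟩ := exists_X hGC hA hB hMB hAB hBM
  obtain ⟨X₂, hX₂, hX₂'⟩ := exists_X hGC hB hA hMB.symm hBM hAB
  rw [blk_comm] at hX₂ hX₂'
  set Q : Subgroup G := sSup (blk n M (cj l M)) with hQ
  have hAQ : A ≤ Q := le_sSup ⟨⟨_, hA⟩, hA.le, hAB⟩
  have hQM : Q ≤ M := sSup_le (fun C hC => hC.2.1)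
  have hNQ : Subgroup.normalizer (Q : Set G) ≠ ⊤ := by
    intro e
    apply hA.coatom.1
    have : Q = ⊤ := hA.2.1 Q (fun g => by rw [e]; exact Subgroup.mem_top g) hAQ
    rw [this] at hQM
    exact eq_top_iff.mpr hQM
  obtain ⟨L', hL', hNL'⟩ := (eq_top_or_exists_le_coatom _).resolve_left hNQ
  have e1 := hX₁' L' hL' (Subgroup.le_normalizer.trans hNL') (hX₁.trans hNL')
  have e2 := hX₂' L' hL' (Subgroup.le_normalizer.trans hNL') (hX₂.trans hNL')
  exact hMB (e1.symm.trans e2)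

end Cfsg.Agent.Lib.Helper57.Flav
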