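import Mathlib
import Cfsg.Agent.Lib.Helper57.FlavB

set_option autoImplicit false

/-!
# Flavell's theorem: `A < G = ⟨A^G⟩`; then `G` is generated by the proper subgroups `H ≥ A` with
`H = ⟨A^H⟩`, or `A` lies in a unique maximal subgroup.  (helper57)
-/

namespace Cfsg.Agent.Lib.Helper57.Flav

open Cfsg.Agent.Lib.Helper62

variable {G : Type*} [Group G]

/-- `H = ⟨A^H⟩`, in ambient form: no proper normal subgroup of `H` contains `A`. -/
def nc (A H : Subgroup G) : Prop :=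
  A ≤ H ∧ ∀ K : Subgroup G, A ≤ K → K ≤ H → H ≤ Subgroup.normalizer (K : Set G) → K = H

theorem nc_refl (A : Subgroup G) : nc A A := ⟨le_rfl, fun _ h1 h2 _ => le_antisymm h2 h1⟩

theorem nc_iff {A H : Subgroup G} (hAH : A ≤ H) :
    Subgroup.normalClosure ((A.subgroupOf H : Subgroup ↥H) : Set ↥H) = ⊤ ↔ nc A H := by
  constructor
  · intro h
    refine ⟨hAH, fun K hAK hKH hn => ?_⟩
    have hnorm : (K.subgroupOf H).Normal := (Subgroup.normal_subgroupOf_iff_le_normalizer hKH).mpr hn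
    have h1 : Subgroup.normalClosure ((A.subgroupOf H : Subgroup ↥H) : Set ↥H) ≤ K.subgroupOf H :=
      Subgroup.normalClosure_le_normal (fun x hx => hAK hx)
    rw [h, top_le_iff, Subgroup.subgroupOf_eq_top] at h1
    exact le_antisymm hKH h1
  · rintro ⟨-, h⟩
    set N : Subgroup ↥H := Subgroup.normalClosure ((A.subgroupOf H : Subgroup ↥H) : Set ↥H) with hN
    have hNn : N.Normal := Subgroup.normalClosure_normal
    have e : (N.map H.subtype).subgroupOf H = N :=
      Subgroup.comap_map_eq_self_of_injective H.subtype_injective N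
    have h1 : N.map H.subtype = H := by
      apply h
      · intro a ha
        exact ⟨⟨a, hAH ha⟩, Subgroup.le_normalClosure (show (⟨a, hAH ha⟩ : ↥H) ∈ A.subgroupOf H from ha), rfl⟩
      · exact Subgroup.map_subtype_le N
      · rw [← Subgroup.normal_subgroupOf_iff_le_normalizer (Subgroup.map_subtype_le N), e]
        exact hNn
    rw [← e, h1]
    exact Subgroup.subgroupOf_self H

theorem nc.eq_of_subnIn {A H S : Subgroup G} (h : nc A H) (hS : SubnIn S H) (hAS : A ≤ S) :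
    S = H := by
  by_contra hne
  obtain ⟨K, h1, h2, h3, -⟩ := hS.exists_normal hne
  exact h2.ne (h.2 K (hAS.trans h1) h2.le h3)

theorem nc.trans {A H K : Subgroup G} (h₁ : nc A H) (h₂ : nc H K) : nc A K := by
  refine ⟨h₁.1.trans h₂.1, fun K₀ hA hK hn => ?_⟩
  apply h₂.2 K₀ _ hK hn
  have : K₀ ⊓ H = H := by
    apply h₁.2 _ (le_inf hA h₁.1) inf_le_right
    exact le_normalizer_inf (h₂.1.trans hn) Subgroup.le_normalizer
  exact inf_eq_right.mp this

/-- the family of Flavell's theorem -/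
def fam (A : Subgroup G) : Set (Subgroup G) := {H | H ≠ ⊤ ∧ nc A H}

/-- the conclusion of Flavell's theorem -/
def Concl (A : Subgroup G) : Prop :=
  sSup (fam A) = ⊤ ∨ ∀ L₁ L₂ : Subgroup G, IsCoatom L₁ → IsCoatom L₂ → A ≤ L₁ → A ≤ L₂ → L₁ = L₂

variable [Finite G]

/-- existence of the subnormal closure -/
theorem exists_snc (A : Subgroup G) : ∀ (k : ℕ) (L : Subgroup G), Nat.card L = k → A ≤ L →
    ∃ H, SubnIn H L ∧ nc A H := by
  intro k
  induction k using Nat.strong_induction_on with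
  | _ k ih =>
    intro L hL hAL
    by_cases h : nc A L
    · exact ⟨L, SubnIn.refl L, h⟩
    · have : ∃ K : Subgroup G, A ≤ K ∧ K ≤ L ∧ L ≤ Subgroup.normalizer (K : Set G) ∧ K ≠ L := by
        by_contra hc
        push Not at hc
        exact h ⟨hAL, hc⟩
      obtain ⟨K, h1, h2, h3, h4⟩ := this
      have hcard : Nat.card K < k := by
        rw [← hL]
        by_contra hnot
        exact h4 (Subgroup.eq_of_le_of_card_ge h2 (not_lt.mp hnot))
      obtain ⟨H, hH, hnc⟩ := ih _ hcard K rfl h1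
      exact ⟨H, hH.trans (SubnIn.of_normal h2 h3), hnc⟩

theorem exists_coatom_ge {T : Subgroup G} (h : T ≠ ⊤) : ∃ L, IsCoatom L ∧ T ≤ L :=
  (eq_top_or_exists_le_coatom T).resolve_left h

theorem gc_of_ih {n : ℕ}
    (ih : ∀ T : Subgroup G, n < Nat.card T → Full T → T ≠ ⊤ → Concl T) : GC G n := by
  intro T hcard hFull M' hsn L₁ L₂ hL₁ hL₂ h1 h2
  have hT : T ≠ ⊤ := by
    rintro rfl
    exact hL₁.1 (eq_top_iff.mpr h1)
  rcases ih T hcard hFull hT with h | h
  · exfalso
    have key : ∀ H ∈ fam T, ∀ L, IsCoatom L → H ≤ L → L ≠ M' → H = T := by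
      intro H hH L hL hHL hne
      exact (hH.2.eq_of_subnIn ((hsn L hL (hH.2.1.trans hHL) hne).restrict hH.2.1 hHL) le_rfl).symm
    by_cases hM' : IsCoatom M' ∧ T ≤ M'
    · apply hM'.1.1
      rw [eq_top_iff, ← h]
      refine sSup_le (fun H hH => ?_)
      obtain ⟨L, hL, hHL⟩ := exists_coatom_ge hH.1
      by_cases e : L = M'
      · exact e ▸ hHL
      · rw [key H hH L hL hHL e]
        exact hM'.2
    · apply hT
      rw [eq_top_iff, ← h]
      refine sSup_le (fun H hH => ?_)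
      obtain ⟨L, hL, hHL⟩ := exists_coatom_ge hH.1
      have e : L ≠ M' := by
        rintro rfl
        exact hM' ⟨hL, hH.2.1.trans hHL⟩
      exact (key H hH L hL hHL e).le
  · exact h L₁ L₂ hL₁ hL₂ h1 h2

/-- **Wielandt's zipper lemma.** -/
theorem zipper {A : Subgroup G} (hFull : Full A) (hA : A ≠ ⊤)
    (hsn : ∀ L, IsCoatom L → A ≤ L → SubnIn A L) {L₁ L₂ : Subgroup G} (hL₁ : IsCoatom L₁)
    (hL₂ : IsCoatom L₂) (h1 : A ≤ L₁) (h2 : A ≤ L₂) : L₁ = L₂ := by
  have IH : ∀ V : Subgroup G, V < ⊤ → ∀ g : G, cj g A ≤ V → SubnIn (cj g A) V := by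
    intro V hV g hle
    obtain ⟨L, hL, hVL⟩ := exists_coatom_ge hV.ne
    have h3 : SubnIn A (cj g⁻¹ L) :=
      hsn _ (isCoatom_cj g⁻¹ hL) ((cj_le_iff g A L).mp (hle.trans hVL))
    have h4 := h3.conj g
    rw [map_conj_map_conj_inv] at h4
    exact h4.restrict hle hVL
  let U : Set (Subgroup G) := {V | A ≤ V ∧ V < ⊤}
  have hUne : U.Nonempty := ⟨A, le_rfl, lt_top_iff_ne_top.mpr hA⟩
  let S : Subgroup G → Set (Subgroup G) :=
    fun V => {B | (∃ g ∈ (⊤ : Subgroup G), B = A.map (MulAut.conj g).toMonoidHom) ∧ SubnIn B V}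
  obtain ⟨M, hMU, hMmax⟩ := zipper_rel ⊤ A U hUne (fun V _ => le_top) S (fun V B => Iff.rfl)
    (by
      rintro V hV W _ B ⟨⟨g, hg, rfl⟩, _⟩ hle
      exact ⟨⟨g, hg, rfl⟩, IH V hV.2 g hle⟩)
    (by
      intro V hV W hW
      set D : Subgroup G := sSup (S V ∩ S W) with hD
      have hA1 : ∀ V' : Subgroup G, V' ∈ U → A ∈ S V' := by
        intro V' hV'
        refine ⟨⟨1, Subgroup.mem_top 1, (map_conj_one A).symm⟩, ?_⟩
        have := IH V' hV'.2 1 (by rw [cj_one]; exact hV'.1)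
        rwa [cj_one] at this
      have hAD : A ≤ D := le_sSup ⟨hA1 V hV, hA1 W hW⟩
      have hDV : D ≤ V := sSup_le (fun B hB => hB.1.2.le)
      refine ⟨⊤ ⊓ Subgroup.normalizer (D : Set G), ⟨le_inf le_top (hAD.trans Subgroup.le_normalizer), ?_⟩,
        le_rfl⟩
      rw [top_inf_eq, lt_top_iff_ne_top]
      intro e
      have : D = ⊤ := hFull D (fun g => by rw [e]; exact Subgroup.mem_top g) hAD
      rw [this] at hDV
      exact hV.2.ne (eq_top_iff.mpr hDV))
  have key : ∀ L, IsCoatom L → A ≤ L → L = M := by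
    intro L hL hAL
    have hLM : L ≤ M := hMmax L ⟨hAL, lt_top_iff_ne_top.mpr hL.1⟩
    by_contra hne
    exact hMU.2.ne (hL.2 M (lt_of_le_of_ne hLM hne))
  rw [key L₁ hL₁ h1, key L₂ hL₂ h2]

theorem step {n : ℕ} (ih : ∀ T : Subgroup G, n < Nat.card T → Full T → T ≠ ⊤ → Concl T)
    {A : Subgroup G} (hn : Nat.card A = n) (hFull : Full A) (hA : A ≠ ⊤) : Concl A := by
  by_cases hY : sSup (fam A) = ⊤
  · exact Or.inl hY
  right
  obtain ⟨M₀, hM₀, hYM₀⟩ := exists_coatom_ge hY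
  have hAM₀ : A ≤ M₀ := (le_sSup (show A ∈ fam A from ⟨hA, nc_refl A⟩)).trans hYM₀
  have hsn : ∀ L, IsCoatom L → A ≤ L → L ≠ M₀ → SubnIn A L := by
    intro L hL hAL hne
    obtain ⟨H, hHL, hnc⟩ := exists_snc A _ L rfl hAL
    have hHtop : H ≠ ⊤ := by
      rintro rfl
      exact hL.1 (eq_top_iff.mpr hHL.le)
    have hHfam : H ∈ fam A := ⟨hHtop, hnc⟩
    by_cases e : H = A
    · rwa [e] at hHL
    exfalso
    have hcard : n < Nat.card H := by
      by_contra hle
      exact e (Subgroup.eq_of_le_of_card_ge hnc.1 (by rw [hn]; omega)).symm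
    rcases ih H hcard (hFull.mono hnc.1) hHtop with h | h
    · apply hY
      rw [eq_top_iff, ← h]
      exact sSup_le_sSup (fun K hK => ⟨hK.1, hnc.trans hK.2⟩)
    · exact hne (h L M₀ hL hM₀ hHL.le ((le_sSup hHfam).trans hYM₀))
  by_cases hs : SubnIn A M₀
  · intro L₁ L₂ hL₁ hL₂ h1 h2
    refine zipper hFull hA (fun L hL hAL => ?_) hL₁ hL₂ h1 h2
    by_cases e : L = M₀
    · rwa [e]
    · exact hsn L hL hAL e
  · have hAH : AH n A M₀ := ⟨hn, hFull, hM₀, hAM₀, hs, hsn⟩
    have hGC := gc_of_ih ih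
    intro L₁ L₂ hL₁ hL₂ h1 h2
    rw [core hGC hAH hL₁ h1, core hGC hAH hL₂ h2]

theorem concl_aux : ∀ (k : ℕ) (A : Subgroup G), Nat.card G - Nat.card A = k → Full A → A ≠ ⊤ →
    Concl A := by
  intro k
  induction k using Nat.strong_induction_on with
  | _ k ih =>
    intro A hk hFull hA
    refine step (n := Nat.card A) (fun T hT hFT hTne => ?_) rfl hFull hA
    refine ih (Nat.card G - Nat.card T) ?_ T rfl hFT hTne
    have h1 : Nat.card T ≤ Nat.card G := Subgroup.card_le_card_group T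
    omega

/-- **Flavell's theorem.** -/
theorem flavell (A : Subgroup G) (hFull : Full A) (hA : A ≠ ⊤) : Concl A :=
  concl_aux _ A rfl hFull hA

end Cfsg.Agent.Lib.Helper57.Flav
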